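/-
Kernel-friendly functions on the tables of `LData`, with their specifications.
-/
import Mathlib
import Cfsg.Agent.Lib.Fischer.M22.LData
import Cfsg.Agent.Lib.Fischer.M22.Fast

set_option autoImplicit false

namespace Cfsg.Agent.Lib.Fischer.M22.LFun

open Cfsg.Agent.Lib.Fischer.M22.LData Cfsg.Agent.Lib.Fischer.M22.Dpll

/-- Bounded universal quantifier. -/
def allB (n : Nat) (f : Nat → Bool) : Bool := Nat.rec true (fun k ih => and (f k) ih) n

theorem allB_spec {n : Nat} {f : Nat → Bool} (h : allB n f = true) : ∀ i, i < n → f i = true := by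
  induction n with
  | zero => intro i hi; omega
  | succ n ih =>
    have h' : and (f n) (allB n f) = true := h
    rw [Bool.and_eq_true] at h'
    intro i hi
    rcases Nat.lt_succ_iff_lt_or_eq.1 hi with h1 | rfl
    · exact ih h'.2 i h1
    · exact h'.1

/-- The mask of the set `i`. -/
noncomputable def M1 (i : Nat) : Nat :=
  Nat.land (Nat.shiftRight MT (Nat.mul 4096 i)) (Nat.sub (Nat.shiftLeft 1 4096) 1)

/-- The elements of the set `i`. -/
noncomputable def L1 (i : Nat) : Nat :=
  Nat.land (Nat.shiftRight LT (Nat.mul 1512 i)) (Nat.sub (Nat.shiftLeft 1 1512) 1)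

/-- The element number `m` of the set `i`. -/
noncomputable def elem (i m : Nat) : Nat := Nat.land (Nat.shiftRight (L1 i) (Nat.mul 12 m)) 4095

/-- The mask of the first `n` elements of `i`. -/
noncomputable def orF (i n : Nat) : Nat := Nat.rec 0 (fun m ih => Nat.lor (Nat.shiftLeft 1 (elem i m)) ih) n

theorem orF_spec (i n q : Nat) (h : bit (orF i n) q = true) : ∃ m, m < n ∧ q = elem i m := by
  induction n with
  | zero =>
    rw [bit_eq_testBit] at h
    have h0 : orF i 0 = 0 := rfl
    rw [h0, Nat.zero_testBit] at h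
    exact absurd h (by simp)
  | succ n ih =>
    have h0 : orF i (n + 1) = (1 <<< (elem i n)) ||| orF i n := rfl
    rw [bit_eq_testBit, h0, Nat.testBit_or, Nat.one_shiftLeft, Nat.testBit_two_pow, Bool.or_eq_true] at h
    rcases h with h | h
    · refine ⟨n, by omega, ?_⟩
      have := of_decide_eq_true h
      exact this.symm
    · rw [← bit_eq_testBit] at h
      obtain ⟨m, hm, e⟩ := ih h
      exact ⟨m, by omega, e⟩

/-- The generators. -/
def genF : Nat → Nat
  | 0 => 2045
  | 1 => 1689
  | 2 => 1893
  | 3 => 173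
  | 4 => 208
  | 5 => 181
  | _ => 5

/-- The action on codes of the generators. -/
noncomputable def tauF : Nat → Nat
  | 0 => tau0
  | 1 => tau1
  | 2 => tau2
  | 3 => tau3
  | 4 => tau4
  | 5 => tau5
  | _ => tau6

/-- The action on sets of the generators. -/
noncomputable def sigF : Nat → Nat
  | 0 => sig0
  | 1 => sig1
  | 2 => sig2
  | 3 => sig3
  | 4 => sig4
  | 5 => sig5
  | _ => sig6

/-- The action on codes of a generator. -/
noncomputable def tauL (k q : Nat) : Nat := Nat.land (Nat.shiftRight (tauF k) (Nat.mul 12 q)) 4095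

/-- The action on sets of a generator. -/
noncomputable def sg (k i : Nat) : Nat := Nat.land (Nat.shiftRight (sigF k) (Nat.mul 11 i)) 2047

/-- The inclusion `t_k (E_i) ⊆ E_{σ_k i}`. -/
noncomputable def imgChk (k i : Nat) : Bool := allB 126 (fun m => bit (M1 (sg k i)) (tauL k (elem i m)))

/-- Apply a word. -/
noncomputable def applyW (fuel w i : Nat) : Nat :=
  Nat.rec (fun _ i => i)
    (fun _ ih w i => cond (Nat.beq w 0) i (ih (Nat.shiftRight w 3) (sg (Nat.sub (Nat.land w 7) 1) i))) fuel w i

theorem applyW_zero (w i : Nat) : applyW 0 w i = i := rfl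

theorem applyW_succ (fuel w i : Nat) : applyW (fuel + 1) w i =
    cond (Nat.beq w 0) i (applyW fuel (Nat.shiftRight w 3) (sg (Nat.sub (Nat.land w 7) 1) i)) := rfl

/-- Entries of the trees on codes. -/
def eP (T q : Nat) : Nat := Nat.land (Nat.shiftRight T (Nat.mul 20 q)) 1048575
/-- Entries of the trees on sets. -/
def eI (T q : Nat) : Nat := Nat.land (Nat.shiftRight T (Nat.mul 19 q)) 524287
/-- The generator of an entry. -/
def eK (e : Nat) : Nat := Nat.land e 7
/-- The parent of an entry on codes. -/
def ePar (e : Nat) : Nat := Nat.land (Nat.shiftRight e 3) 4095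
/-- The rank of an entry on codes. -/
def eRkP (e : Nat) : Nat := Nat.shiftRight e 15
/-- The parent of an entry on sets. -/
def iPar (e : Nat) : Nat := Nat.land (Nat.shiftRight e 3) 2047
/-- The rank of an entry on sets. -/
def iRk (e : Nat) : Nat := Nat.shiftRight e 14

/-- The entry of the table `CT`: partner, rank, word. -/
noncomputable def eC (j : Nat) : Nat := Nat.land (Nat.shiftRight CT (Nat.mul 73 j)) (Nat.sub (Nat.shiftLeft 1 73) 1)
/-- Partner. -/
def cPt (e : Nat) : Nat := Nat.land e 2047
/-- Rank. -/
def cRk (e : Nat) : Nat := Nat.land (Nat.shiftRight e 11) 3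
/-- Word. -/
def cW (e : Nat) : Nat := Nat.shiftRight e 13

end Cfsg.Agent.Lib.Fischer.M22.LFun
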