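/-
The finite checks on the tables of `LData`, done by the kernel.
-/
import Mathlib
import Cfsg.Agent.Lib.Fischer.M22.LFun

set_option autoImplicit false

namespace Cfsg.Agent.Lib.Fischer.M22.LCheck

open Cfsg.Agent.Lib.Fischer.M22.LData Cfsg.Agent.Lib.Fischer.M22.Dpll Cfsg.Agent.Lib.Fischer.M22.LFun
open Cfsg.Agent.Lib.Fischer.M22.Tables Cfsg.Agent.Lib.Fischer.M22.Fast Cfsg.Agent.Lib.Fischer.M22.Model

theorem c_tau0 : allB 4096 (fun q => or (not (bit PTS q)) (Nat.beq (tauL 0 q) (tpF (genF 0) q))) = true := by decide +kernel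
theorem c_inv0 : allB 1408 (fun i => and (Nat.blt (sg 0 i) 1408) (Nat.beq (sg 0 (sg 0 i)) i)) = true := by decide +kernel
theorem c_gen0 : isPt (genF 0) = true := by decide +kernel
theorem c_tau1 : allB 4096 (fun q => or (not (bit PTS q)) (Nat.beq (tauL 1 q) (tpF (genF 1) q))) = true := by decide +kernel
theorem c_inv1 : allB 1408 (fun i => and (Nat.blt (sg 1 i) 1408) (Nat.beq (sg 1 (sg 1 i)) i)) = true := by decide +kernel
theorem c_gen1 : isPt (genF 1) = true := by decide +kernel
theorem c_tau2 : allB 4096 (fun q => or (not (bit PTS q)) (Nat.beq (tauL 2 q) (tpF (genF 2) q))) = true := by decide +kernel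
theorem c_inv2 : allB 1408 (fun i => and (Nat.blt (sg 2 i) 1408) (Nat.beq (sg 2 (sg 2 i)) i)) = true := by decide +kernel
theorem c_gen2 : isPt (genF 2) = true := by decide +kernel
theorem c_tau3 : allB 4096 (fun q => or (not (bit PTS q)) (Nat.beq (tauL 3 q) (tpF (genF 3) q))) = true := by decide +kernel
theorem c_inv3 : allB 1408 (fun i => and (Nat.blt (sg 3 i) 1408) (Nat.beq (sg 3 (sg 3 i)) i)) = true := by decide +kernel
theorem c_gen3 : isPt (genF 3) = true := by decide +kernel
theorem c_tau4 : allB 4096 (fun q => or (not (bit PTS q)) (Nat.beq (tauL 4 q) (tpF (genF 4) q))) = true := by decide +kernel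
theorem c_inv4 : allB 1408 (fun i => and (Nat.blt (sg 4 i) 1408) (Nat.beq (sg 4 (sg 4 i)) i)) = true := by decide +kernel
theorem c_gen4 : isPt (genF 4) = true := by decide +kernel
theorem c_tau5 : allB 4096 (fun q => or (not (bit PTS q)) (Nat.beq (tauL 5 q) (tpF (genF 5) q))) = true := by decide +kernel
theorem c_inv5 : allB 1408 (fun i => and (Nat.blt (sg 5 i) 1408) (Nat.beq (sg 5 (sg 5 i)) i)) = true := by decide +kernel
theorem c_gen5 : isPt (genF 5) = true := by decide +kernel
theorem c_tau6 : allB 4096 (fun q => or (not (bit PTS q)) (Nat.beq (tauL 6 q) (tpF (genF 6) q))) = true := by decide +kernel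
theorem c_inv6 : allB 1408 (fun i => and (Nat.blt (sg 6 i) 1408) (Nat.beq (sg 6 (sg 6 i)) i)) = true := by decide +kernel
theorem c_gen6 : isPt (genF 6) = true := by decide +kernel

theorem c_tau (k : Nat) (hk : k < 7) : allB 4096 (fun q => or (not (bit PTS q)) (Nat.beq (tauL k q) (tpF (genF k) q))) = true := by
  interval_cases k
  exacts [c_tau0, c_tau1, c_tau2, c_tau3, c_tau4, c_tau5, c_tau6]

theorem c_inv (k : Nat) (hk : k < 7) : allB 1408 (fun i => and (Nat.blt (sg k i) 1408) (Nat.beq (sg k (sg k i)) i)) = true := by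
  interval_cases k
  exacts [c_inv0, c_inv1, c_inv2, c_inv3, c_inv4, c_inv5, c_inv6]

theorem c_gen (k : Nat) (hk : k < 7) : isPt (genF k) = true := by
  interval_cases k
  exacts [c_gen0, c_gen1, c_gen2, c_gen3, c_gen4, c_gen5, c_gen6]

theorem c_genS : genF 6 = 5 := rfl

theorem c_sub : allB 1408 (fun i => Nat.beq (Nat.land (M1 i) PTS) (M1 i)) = true := by decide +kernel

theorem c_or : allB 1408 (fun i => Nat.beq (M1 i) (orF i 126)) = true := by decide +kernel

theorem c_pts_lt : Nat.beq (Nat.shiftRight PTS 4096) 0 = true := by decide +kernel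

theorem c_mono : allB 1407 (fun i => Nat.blt (M1 i) (M1 (Nat.add i 1))) = true := by decide +kernel

/-- The check on the tree of points. -/
noncomputable def ptreeChk (q : Nat) : Bool :=
  or (Nat.beq q 5) (and (Nat.blt (eK (eP PTr q)) 7) (and (bit PTS (ePar (eP PTr q)))
    (and (Nat.blt (eRkP (eP PTr (ePar (eP PTr q)))) (eRkP (eP PTr q))) (Nat.beq (tauL (eK (eP PTr q)) (ePar (eP PTr q))) q))))

theorem c_ptree : allB 4096 (fun q => or (not (bit PTS q)) (ptreeChk q)) = true := by decide +kernel

/-- The check on the tree of sets. -/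
noncomputable def itreeChk (i : Nat) : Bool :=
  or (Nat.beq i x0) (and (Nat.blt (eK (eI ITr i)) 7) (and (Nat.blt (iPar (eI ITr i)) 1408)
    (and (Nat.blt (iRk (eI ITr (iPar (eI ITr i)))) (iRk (eI ITr i))) (Nat.beq (sg (eK (eI ITr i)) (iPar (eI ITr i))) i))))

theorem c_itree : allB 1408 itreeChk = true := by decide +kernel

theorem c_fix : allB 6 (fun k => Nat.beq (sg k x0) x0) = true := by decide +kernel

theorem c_z0 : sg 6 x0 = z0 := by decide +kernel

theorem c_N0inv : allB 6 (fun k => allB 1408 (fun j => or (not (bit N0 j)) (bit N0 (sg k j)))) = true := by decide +kernel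

theorem c_N0x : bit N0 x0 = false := by decide +kernel
theorem c_N0z : bit N0 z0 = true := by decide +kernel
theorem c_N0y : bit N0 y0 = false := by decide +kernel
theorem c_x5 : bit (M1 x0) 5 = false := by decide +kernel

/-- The check on the forest of sets. -/
noncomputable def htreeChk (j : Nat) : Bool :=
  or (Nat.beq j x0) (or (Nat.beq j z0) (or (Nat.beq j y0) (and (Nat.blt (eK (eI HTr j)) 6) (and (Nat.blt (iPar (eI HTr j)) 1408)
    (and (not (Nat.beq (iPar (eI HTr j)) x0)) (and (Nat.blt (iRk (eI HTr (iPar (eI HTr j)))) (iRk (eI HTr j)))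
      (Nat.beq (sg (eK (eI HTr j)) (iPar (eI HTr j))) j)))))))

theorem c_htree : allB 1408 htreeChk = true := by decide +kernel

/-- The check on the tree of points outside `x0`. -/
noncomputable def utreeChk (q : Nat) : Bool :=
  or (Nat.beq q 5) (and (Nat.blt (eK (eP UTr q)) 6) (and (bit PTS (ePar (eP UTr q))) (and (not (bit (M1 x0) (ePar (eP UTr q))))
    (and (Nat.blt (eRkP (eP UTr (ePar (eP UTr q)))) (eRkP (eP UTr q))) (Nat.beq (tauL (eK (eP UTr q)) (ePar (eP UTr q))) q)))))

theorem c_utree : allB 4096 (fun q => or (not (and (bit PTS q) (not (bit (M1 x0) q)))) (utreeChk q)) = true := by decide +kernel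

/-- The reversed word of `y0`. -/
def w0r : Nat := 3671

theorem c_w0 : applyW 20 w0 x0 = y0 := by decide +kernel
theorem c_w0r : applyW 20 w0r y0 = x0 := by decide +kernel

theorem c_Y0 : allB 1408 (fun j => and (Nat.beq (applyW 20 w0 (applyW 20 w0r j)) j)
    (or (not (bit Y0 j)) (bit N0 (applyW 20 w0r j)))) = true := by decide +kernel

theorem c_Y0' : allB 1408 (fun j => or (not (bit N0 (applyW 20 w0r j))) (bit Y0 j)) = true := by decide +kernel

/-- Edges of the link of `y0`. -/
noncomputable def bChk (j : Nat) : Bool :=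
  or (Nat.beq j piv) (and (bit N0 (cPt (eC j))) (and (bit Y0 (cPt (eC j))) (and (Nat.blt (cRk (eC (cPt (eC j)))) (cRk (eC j)))
    (and (Nat.beq (applyW 20 (cW (eC j)) x0) (cPt (eC j))) (Nat.beq (applyW 20 (cW (eC j)) z0) j)))))

theorem c_B : allB 1408 (fun j => or (not (and (bit N0 j) (bit Y0 j))) (bChk j)) = true := by decide +kernel

/-- Edges from the link of `y0` to the neighbours of `y0` at distance two. -/
noncomputable def cChk (j : Nat) : Bool :=
  and (bit N0 (cPt (eC j))) (and (bit Y0 (cPt (eC j)))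
    (and (Nat.beq (applyW 20 (cW (eC j)) x0) (cPt (eC j))) (Nat.beq (applyW 20 (cW (eC j)) z0) j)))

theorem c_C : allB 1408 (fun j => or (not (and (bit Y0 j) (not (bit N0 j)))) (cChk j)) = true := by decide +kernel

theorem c_piv : and (bit N0 piv) (bit Y0 piv) = true := by decide +kernel

theorem c_card_x0 : (PL.filter (fun q => bit (M1 x0) q)).length = 126 := by decide +kernel

theorem c_card_perp : (PL.filter (fun q => and (not (Nat.beq q 5)) (perp 5 q))).length = 180 := by decide +kernel

end Cfsg.Agent.Lib.Fischer.M22.LCheck
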