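/-
The closure of the family under the seven generators, done by the kernel.
-/
import Mathlib
import Cfsg.Agent.Lib.Fischer.M22.LFun

set_option autoImplicit false

namespace Cfsg.Agent.Lib.Fischer.M22.LCheck

open Cfsg.Agent.Lib.Fischer.M22.LFun

theorem c_img0 : allB 1408 (imgChk 0) = true := by decide +kernel

theorem c_img1 : allB 1408 (imgChk 1) = true := by decide +kernel

theorem c_img2 : allB 1408 (imgChk 2) = true := by decide +kernel

theorem c_img3 : allB 1408 (imgChk 3) = true := by decide +kernel

theorem c_img4 : allB 1408 (imgChk 4) = true := by decide +kernel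

theorem c_img5 : allB 1408 (imgChk 5) = true := by decide +kernel

theorem c_img6 : allB 1408 (imgChk 6) = true := by decide +kernel

theorem c_img (k : Nat) (hk : k < 7) : allB 1408 (imgChk k) = true := by
  interval_cases k
  exacts [c_img0, c_img1, c_img2, c_img3, c_img4, c_img5, c_img6]

end Cfsg.Agent.Lib.Fischer.M22.LCheck
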